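import Mathlib

/-! The universal splitting algebra has the staircase basis. -/

set_option autoImplicit false

universe u

open Polynomial

namespace H1Staircase

/-- Staircase exponents. -/
abbrev St (n : ℕ) : Type := (i : Fin n) → Fin (n - (i : ℕ))

variable {R : Type u} [CommRing R]

/-- The ideal making `f` split as `∏ (T - t_i)`. -/
noncomputable def splitI (n : ℕ) (f : R[X]) : Ideal (MvPolynomial (Fin n) R) :=
  Ideal.span (Set.range fun k => ((∏ i : Fin n, (X - C (MvPolynomial.X i : MvPolynomial (Fin n) R))) -
    f.map (MvPolynomial.C)).coeff k)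

theorem map_splitI_le_ker {n : ℕ} {f : R[X]} {S : Type u} [CommRing S] [Algebra R S]
    (g : MvPolynomial (Fin n) R →ₐ[R] S)
    (h : ∏ i : Fin n, (X - C (g (MvPolynomial.X i))) = f.map (algebraMap R S)) :
    splitI n f ≤ RingHom.ker g := by
  refine Ideal.span_le.2 ?_
  rintro _ ⟨k, rfl⟩
  show g.toRingHom _ = 0
  rw [← coeff_map, Polynomial.map_sub, Polynomial.map_prod, Polynomial.map_map,
    show g.toRingHom.comp MvPolynomial.C = algebraMap R S from RingHom.ext fun r => g.commutes r]
  simp only [Polynomial.map_sub, map_X, map_C]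
  rw [show (∏ i : Fin n, (X - C (g.toRingHom (MvPolynomial.X i)))) = f.map (algebraMap R S) from h, sub_self, coeff_zero]

theorem prod_mk (n : ℕ) (f : R[X]) :
    ∏ i : Fin n, (X - C (Ideal.Quotient.mk (splitI n f) (MvPolynomial.X i))) =
      f.map (algebraMap R (MvPolynomial (Fin n) R ⧸ splitI n f)) := by
  rw [← sub_eq_zero]
  refine Polynomial.ext fun k => ?_
  have : (((∏ i : Fin n, (X - C (MvPolynomial.X i : MvPolynomial (Fin n) R))) -
      f.map MvPolynomial.C).map (Ideal.Quotient.mk (splitI n f))).coeff k = 0 := by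
    rw [coeff_map, Ideal.Quotient.eq_zero_iff_mem]
    exact Ideal.subset_span ⟨k, rfl⟩
  rw [coeff_zero, ← this, Polynomial.map_sub, Polynomial.map_prod, Polynomial.map_map]
  simp only [Polynomial.map_sub, map_X, map_C]
  rfl

/-- Coordinates. -/
noncomputable def stMap (n : ℕ) (f : R[X]) (α : St n → R) : MvPolynomial (Fin n) R ⧸ splitI n f :=
  Ideal.Quotient.mk _ (∑ d : St n, MvPolynomial.C (α d) * ∏ i : Fin n, MvPolynomial.X i ^ (d i : ℕ))

theorem bijective_stMap : ∀ (n : ℕ) (R : Type u) [CommRing R] (f : R[X]), f.Monic → f.natDegree = n →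
    Function.Bijective (stMap n f)
  | 0, R, _, f, hf, hn => by
    have hf1 : f = 1 := eq_one_of_monic_natDegree_zero hf hn
    have hbot : splitI 0 f = ⊥ := by
      rw [splitI, Ideal.span_eq_bot]
      rintro _ ⟨k, rfl⟩
      simp [hf1]
    let d0 : St 0 := fun i => i.elim0
    constructor
    · intro α β h
      funext d
      rw [Subsingleton.elim d d0]
      simp only [stMap, Ideal.Quotient.eq, hbot, Ideal.mem_bot, sub_eq_zero, Fintype.sum_subsingleton _ d0] at h
      simpa using h
    · intro y
      obtain ⟨p, rfl⟩ := Ideal.Quotient.mk_surjective y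
      refine ⟨fun _ => p.coeff 0, ?_⟩
      rw [stMap, Fintype.sum_subsingleton _ d0]
      congr 1
      conv_rhs => rw [MvPolynomial.eq_C_of_isEmpty p]
      simp
  | n + 1, R, _, f, hf, hn => by
    haveI : Nontrivial R := by
      rcases subsingleton_or_nontrivial R with h | h
      · rw [Subsingleton.elim f 0, natDegree_zero] at hn; omega
      · exact h
    let S := AdjoinRoot f
    let x : S := AdjoinRoot.root f
    have hx : (f.map (algebraMap R S)).IsRoot x := AdjoinRoot.isRoot_root f
    obtain ⟨g, hg⟩ := dvd_iff_isRoot.2 hx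
    have hfm : (f.map (algebraMap R S)).Monic := hf.map _
    have hgm : g.Monic := Monic.of_mul_monic_left (monic_X_sub_C x) (hg ▸ hfm)
    let pb := AdjoinRoot.powerBasis' hf
    haveI : Nonempty (Fin pb.dim) := ⟨⟨0, by simp [pb, hn]⟩⟩
    haveI : Nontrivial S := pb.basis.repr.toEquiv.nontrivial
    have hgd : g.natDegree = n := by
      have h1 := (monic_X_sub_C x).natDegree_mul hgm
      rw [← hg, hf.natDegree_map, natDegree_X_sub_C, hn] at h1
      omega
    have hb := bijective_stMap n S g hgm hgd
    let Q := MvPolynomial (Fin (n + 1)) R ⧸ splitI (n + 1) f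
    let q : Fin (n + 1) → Q := fun i => Ideal.Quotient.mk _ (MvPolynomial.X i)
    let σ : S →ₐ[R] Q := AdjoinRoot.liftAlgHom f (Algebra.ofId R Q) (q 0) (by
      rw [show ((Algebra.ofId R Q : R →ₐ[R] Q) : R →+* Q) = algebraMap R Q from rfl, eval₂_eq_eval_map]
      have := prod_mk (n + 1) f
      rw [← this, eval_prod]
      exact Finset.prod_eq_zero (Finset.mem_univ 0) (by simp [q]))
    have hσx : σ x = q 0 := AdjoinRoot.liftAlgHom_root _ _ _ _
    have hQ : ∏ i : Fin n, (X - C (q i.succ)) = g.map σ.toRingHom := by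
      refine (monic_X_sub_C (q 0)).isRegular.left ?_
      show (X - C (q 0)) * _ = (X - C (q 0)) * _
      rw [← Fin.prod_univ_succ (fun i => X - C (q i))]
      have : (X - C (q 0)) * g.map σ.toRingHom = f.map (algebraMap R Q) := by
        rw [← σ.comp_algebraMap, ← Polynomial.map_map, hg, Polynomial.map_mul, Polynomial.map_sub, map_X, map_C,
          show ((σ : S →+* Q)) x = q 0 from hσx]
        rfl
      rw [this]
      exact prod_mk (n + 1) f
    letI : Algebra S Q := σ.toRingHom.toAlgebra
    let ψ₀ : MvPolynomial (Fin n) S →ₐ[S] Q := MvPolynomial.aeval fun i => q i.succ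
    let ψ : MvPolynomial (Fin n) S ⧸ splitI n g →ₐ[S] Q :=
      Ideal.Quotient.liftₐ _ ψ₀ fun z hz => map_splitI_le_ker ψ₀ (by simp only [ψ₀, MvPolynomial.aeval_X]; exact hQ) hz
    let S' := MvPolynomial (Fin n) S ⧸ splitI n g
    let s : Fin (n + 1) → S' := Fin.cons (algebraMap S S' x) fun i => Ideal.Quotient.mk _ (MvPolynomial.X i)
    let φ₀ : MvPolynomial (Fin (n + 1)) R →ₐ[R] S' := MvPolynomial.aeval s
    let φ : Q →ₐ[R] S' := Ideal.Quotient.liftₐ _ φ₀ fun z hz => map_splitI_le_ker φ₀ (by
      simp only [φ₀, MvPolynomial.aeval_X, Fin.prod_univ_succ, s, Fin.cons_zero, Fin.cons_succ]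
      rw [prod_mk n g, IsScalarTower.algebraMap_eq R S S', ← Polynomial.map_map, hg, Polynomial.map_mul,
        Polynomial.map_sub, map_X, map_C]) hz
    have hφq : ∀ i, φ (q i) = s i := fun i => MvPolynomial.aeval_X s i
    have hψs : ∀ i, ψ (s i) = q i := fun i => by
      refine Fin.cases ?_ (fun i => ?_) i
      · show ψ (algebraMap S S' x) = q 0
        rw [AlgHom.commutes]; exact hσx
      · exact MvPolynomial.aeval_X _ i
    haveI : IsScalarTower R S Q := IsScalarTower.of_algebraMap_eq fun r => (σ.commutes r).symm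
    have hbij : Function.Bijective ψ := by
      have h2 : ∀ z, ψ (φ z) = z := by
        have : (ψ.restrictScalars R).comp φ = AlgHom.id R Q := by
          refine Ideal.Quotient.algHom_ext R (MvPolynomial.algHom_ext fun i => ?_)
          show ψ (φ (q i)) = q i
          rw [hφq, hψs]
        exact fun z => DFunLike.congr_fun this z
      have h1 : ∀ z, φ (ψ z) = z := by
        let φS : S →+* S' := φ.toRingHom.comp σ.toRingHom
        have hS : φS = algebraMap S S' := by
          refine AdjoinRoot.ringHom_ext ?_ ?_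
          · refine RingHom.ext fun r => ?_
            show φ (σ (algebraMap R S r)) = algebraMap S S' (algebraMap R S r)
            rw [σ.commutes, φ.commutes, IsScalarTower.algebraMap_apply R S S']
          · show φ (σ x) = algebraMap S S' x
            rw [hσx, hφq]; rfl
        intro z
        obtain ⟨p, rfl⟩ := Ideal.Quotient.mk_surjective z
        induction p using MvPolynomial.induction_on with
        | C a =>
          show φ (ψ (algebraMap S S' a)) = algebraMap S S' a
          rw [AlgHom.commutes]
          exact DFunLike.congr_fun hS a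
        | add p r hp hr => simp only [map_add, hp, hr]
        | mul_X p i hp =>
          rw [map_mul, map_mul, map_mul, hp]
          congr 1
          have : φ (q i.succ) = s i.succ := hφq i.succ
          show φ (ψ₀ (MvPolynomial.X i)) = _
          rw [MvPolynomial.aeval_X, this]
          rfl
      exact Function.bijective_iff_has_inverse.2 ⟨φ, h1, h2⟩
    let b : Module.Basis (Fin (n + 1)) R S := pb.basis.reindex (finCongr (by simp [pb, hn]))
    let tail : St (n + 1) → St n := fun d i => (d i.succ).cast (by simp [Fin.val_succ])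
    let cons : Fin (n + 1) → St n → St (n + 1) := fun k d' => Fin.cons (k.cast (by simp)) fun i => (d' i).cast (by simp [Fin.val_succ])
    let e : St (n + 1) ≃ Fin (n + 1) × St n :=
      { toFun := fun d => ((d 0).cast (by simp), tail d)
        invFun := fun p => cons p.1 p.2
        left_inv := fun d => by
          funext i
          refine Fin.cases ?_ (fun i => ?_) i
          · simp only [cons, Fin.cons_zero]; rfl
          · simp only [cons, tail, Fin.cons_succ]; rfl
        right_inv := fun p => by
          refine Prod.ext ?_ (funext fun i => ?_)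
          · simp only [cons, Fin.cons_zero]; rfl
          · simp only [cons, tail, Fin.cons_succ]; rfl }
    let A : (St (n + 1) → R) → (St n → S) := fun α d' => ∑ k, α (e.symm (k, d')) • b k
    have hA : Function.Bijective A := by
      refine Function.bijective_iff_has_inverse.2 ⟨fun β d => b.repr (β (e d).2) (e d).1, fun α => ?_, fun β => ?_⟩
      · funext d
        show b.repr (∑ k, α (e.symm (k, (e d).2)) • b k) (e d).1 = α d
        rw [b.repr_sum_self]
        exact congrArg α (e.symm_apply_apply d)
      · funext d'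
        show ∑ k, b.repr (β (e (e.symm (k, d'))).2) (e (e.symm (k, d'))).1 • b k = β d'
        simp only [Equiv.apply_symm_apply]
        exact b.sum_repr _
    have hcomp : stMap (n + 1) f = ψ ∘ stMap n g ∘ A := by
      funext α
      have hb' : ∀ k, σ (b k) = q 0 ^ (k : ℕ) := fun k => by
        simp only [b, Module.Basis.reindex_apply, PowerBasis.coe_basis, map_pow]
        rw [show σ pb.gen = q 0 from hσx]
        rfl
      show Ideal.Quotient.mk _ _ = ψ₀ (∑ d' : St n, MvPolynomial.C (A α d') * _)
      simp only [map_sum, map_mul, map_prod, map_pow, ψ₀, MvPolynomial.aeval_C, MvPolynomial.aeval_X, A]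
      rw [← e.symm.sum_comp, Fintype.sum_prod_type_right]
      refine Finset.sum_congr rfl fun d' _ => ?_
      rw [Finset.sum_mul]
      refine Finset.sum_congr rfl fun k _ => ?_
      rw [Fin.prod_univ_succ, ← mul_assoc]
      congr 1
      show algebraMap R Q _ * _ = σ.toRingHom (α (e.symm (k, d')) • b k)
      rw [show σ.toRingHom (α (e.symm (k, d')) • b k) = σ (α (e.symm (k, d')) • b k) from rfl, map_smul, hb',
        Algebra.smul_def (α (e.symm (k, d'))) (q 0 ^ (k : ℕ))]
      congr 2
    rw [hcomp]
    exact hbij.comp (hb.comp hA)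

/-- The generic monic polynomial. -/
noncomputable def fPoly (n : ℕ) (a : Fin n → R) : R[X] :=
  X ^ n + ∑ i : Fin n, C ((-1) ^ ((i : ℕ) + 1) * a i) * X ^ (n - 1 - (i : ℕ))

theorem degree_sum_lt (n : ℕ) (a : Fin n → R) :
    (∑ i : Fin n, C ((-1 : R) ^ ((i : ℕ) + 1) * a i) * X ^ (n - 1 - (i : ℕ))).degree < ((n : ℕ) : WithBot ℕ) := by
  refine lt_of_le_of_lt (degree_sum_le _ _) ((Finset.sup_lt_iff (WithBot.bot_lt_coe n)).2 fun i _ => ?_)
  exact lt_of_le_of_lt (degree_C_mul_X_pow_le _ _) (Nat.cast_lt.2 (by omega))

theorem fPoly_monic (n : ℕ) (a : Fin n → R) : (fPoly n a).Monic := monic_X_pow_add (degree_sum_lt n a)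

theorem fPoly_natDegree [Nontrivial R] (n : ℕ) (a : Fin n → R) : (fPoly n a).natDegree = n := by
  refine natDegree_eq_of_degree_eq_some ?_
  rw [fPoly, degree_add_eq_left_of_degree_lt] <;> rw [degree_X_pow]
  exact degree_sum_lt n a

theorem span_esymm_eq (n : ℕ) (a : Fin n → R) :
    Ideal.span (Set.range fun i : Fin n => MvPolynomial.esymm (Fin n) R ((i : ℕ) + 1) - MvPolynomial.C (a i)) =
      splitI n (fPoly n a) := by
  have hprod : (∏ i : Fin n, (X - C (MvPolynomial.X i : MvPolynomial (Fin n) R))) =
      ((Finset.univ.val.map (MvPolynomial.X : Fin n → MvPolynomial (Fin n) R)).map fun t => X - C t).prod := by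
    rw [Multiset.map_map]; rfl
  have hc : ∀ k, ((∏ i : Fin n, (X - C (MvPolynomial.X i : MvPolynomial (Fin n) R))) - (fPoly n a).map MvPolynomial.C).coeff k =
      ∑ i : Fin n, if k = n - 1 - (i : ℕ) then
        (-1) ^ ((i : ℕ) + 1) * (MvPolynomial.esymm (Fin n) R ((i : ℕ) + 1) - MvPolynomial.C (a i)) else 0 := by
    intro k
    simp only [fPoly, Polynomial.map_add, Polynomial.map_pow, map_X, Polynomial.map_sum, Polynomial.map_mul, map_C,
      coeff_sub, coeff_add, finset_sum_coeff, coeff_C_mul_X_pow, coeff_X_pow]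
    rcases Nat.lt_or_ge k n with hk | hk
    · rw [if_neg hk.ne, zero_add, hprod, Multiset.prod_X_sub_C_coeff _ (by simp; omega),
        Finset.sum_eq_single (⟨n - 1 - k, by omega⟩ : Fin n), Finset.sum_eq_single (⟨n - 1 - k, by omega⟩ : Fin n)]
      · rw [← MvPolynomial.esymm_eq_multiset_esymm]
        simp only [Multiset.card_map, Finset.card_val, Finset.card_univ, Fintype.card_fin]
        rw [if_pos (by omega), if_pos (by omega), show n - k = n - 1 - k + 1 by omega, mul_sub, map_mul, map_pow, map_neg, map_one]
      all_goals first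
        | (intro i _ hi; rw [if_neg]; intro h; exact hi (Fin.ext (by simp only; omega)))
        | (intro h; exact absurd (Finset.mem_univ _) h)
    · rw [Finset.sum_eq_zero (fun i _ => if_neg (by omega)), Finset.sum_eq_zero (fun i _ => if_neg (by omega))]
      rcases eq_or_lt_of_le hk with rfl | hlt
      · rw [if_pos rfl, add_zero, sub_eq_zero]
        have hm : (∏ i : Fin n, (X - C (MvPolynomial.X i : MvPolynomial (Fin n) R))).Monic :=
          monic_prod_of_monic _ _ fun i _ => monic_X_sub_C _
        nontriviality R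
        have hd : (∏ i : Fin n, (X - C (MvPolynomial.X i : MvPolynomial (Fin n) R))).natDegree = n := by
          rw [natDegree_prod_of_monic _ _ fun i _ => monic_X_sub_C _]; simp
        exact (congrArg _ hd.symm).trans hm.coeff_natDegree
      · rw [if_neg hlt.ne', add_zero, sub_zero]
        refine coeff_eq_zero_of_natDegree_lt (lt_of_le_of_lt (natDegree_prod_le _ _) ?_)
        refine lt_of_le_of_lt (Finset.sum_le_card_nsmul _ _ 1 fun i _ => natDegree_X_sub_C_le _) ?_
        simpa using hlt
  refine le_antisymm (Ideal.span_le.2 ?_) (Ideal.span_le.2 ?_)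
  · rintro _ ⟨i, rfl⟩
    have := Ideal.subset_span (α := MvPolynomial (Fin n) R) (s := Set.range fun k =>
      ((∏ i : Fin n, (X - C (MvPolynomial.X i : MvPolynomial (Fin n) R))) - (fPoly n a).map MvPolynomial.C).coeff k)
      ⟨n - 1 - (i : ℕ), rfl⟩
    simp only [SetLike.mem_coe] at this
    rw [hc, Finset.sum_eq_single i (fun j _ hj => if_neg (fun h => hj (Fin.ext (by omega))))
      (fun h => absurd (Finset.mem_univ i) h), if_pos rfl] at this
    have h2 := Ideal.mul_mem_left _ ((-1 : MvPolynomial (Fin n) R) ^ ((i : ℕ) + 1)) this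
    rw [← mul_assoc, ← mul_pow, neg_one_mul, neg_neg, one_pow, one_mul] at h2
    exact h2
  · rintro _ ⟨k, rfl⟩
    show ((∏ i : Fin n, (X - C (MvPolynomial.X i : MvPolynomial (Fin n) R))) - (fPoly n a).map MvPolynomial.C).coeff k ∈ _
    rw [hc]
    refine Ideal.sum_mem _ fun i _ => ?_
    split_ifs with h
    · exact Ideal.mul_mem_left _ _ (Ideal.subset_span ⟨i, rfl⟩)
    · exact zero_mem _

/-- The staircase coordinates. -/
theorem bijective_mk (n : ℕ) (a : Fin n → R) :
    Function.Bijective fun α : St n → R =>
      Ideal.Quotient.mk (Ideal.span (Set.range fun i : Fin n => MvPolynomial.esymm (Fin n) R ((i : ℕ) + 1) - MvPolynomial.C (a i)))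
        (∑ d : St n, MvPolynomial.C (α d) * ∏ i : Fin n, MvPolynomial.X i ^ (d i : ℕ)) := by
  rcases subsingleton_or_nontrivial R with h | h
  · haveI : Subsingleton (MvPolynomial (Fin n) R) := inferInstance
    exact ⟨fun x y _ => Subsingleton.elim x y, fun y => ⟨0, (Ideal.Quotient.mk_surjective (I := Ideal.span _)).subsingleton.elim _ _⟩⟩
  rw [span_esymm_eq]
  exact bijective_stMap n R (fPoly n a) (fPoly_monic n a) (fPoly_natDegree n a)

end H1Staircase
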