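import Groth.Agent.H1Staircase.Basic
import Mathlib

/-! The staircase basis modulo an ideal of the base. -/

set_option autoImplicit false

universe u

namespace H1Staircase

variable {R : Type u} [CommRing R] (n : ℕ) (a : Fin n → R) (J : Ideal R)

theorem map_staircase (α : St n → R) : MvPolynomial.map (Ideal.Quotient.mk J) (∑ d : St n, MvPolynomial.C (α d) * ∏ i : Fin n, MvPolynomial.X i ^ (d i : ℕ)) =
    ∑ d : St n, MvPolynomial.C (Ideal.Quotient.mk J (α d)) * ∏ i : Fin n, MvPolynomial.X i ^ (d i : ℕ) := by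
  simp [map_sum, map_prod]

theorem mem_sup_iff (x : MvPolynomial (Fin n) R) :
    x ∈ Ideal.span (Set.range fun i : Fin n => MvPolynomial.esymm (Fin n) R ((i : ℕ) + 1) - MvPolynomial.C (a i))
        ⊔ Ideal.map (MvPolynomial.C : R →+* MvPolynomial (Fin n) R) J ↔
      MvPolynomial.map (Ideal.Quotient.mk J) x ∈ Ideal.span (Set.range fun i : Fin n =>
        MvPolynomial.esymm (Fin n) (R ⧸ J) ((i : ℕ) + 1) - MvPolynomial.C (Ideal.Quotient.mk J (a i))) := by
  let φ : MvPolynomial (Fin n) R →+* MvPolynomial (Fin n) (R ⧸ J) := MvPolynomial.map (Ideal.Quotient.mk J)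
  have hs : Function.Surjective φ := MvPolynomial.map_surjective _ Ideal.Quotient.mk_surjective
  have hI : (Ideal.span (Set.range fun i : Fin n => MvPolynomial.esymm (Fin n) R ((i : ℕ) + 1) - MvPolynomial.C (a i))).map φ =
      Ideal.span (Set.range fun i : Fin n =>
        MvPolynomial.esymm (Fin n) (R ⧸ J) ((i : ℕ) + 1) - MvPolynomial.C (Ideal.Quotient.mk J (a i))) := by
    rw [Ideal.map_span, ← Set.range_comp]
    congr 2
    funext i
    simp [φ, MvPolynomial.map_esymm]
  have hk : RingHom.ker φ = Ideal.map (MvPolynomial.C : R →+* MvPolynomial (Fin n) R) J := by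
    rw [MvPolynomial.ker_map, Ideal.mk_ker]
  rw [← hI, show (MvPolynomial.map (Ideal.Quotient.mk J)) x = φ x from rfl, ← Ideal.mem_comap,
    Ideal.comap_map_of_surjective φ hs, ← RingHom.ker_eq_comap_bot, hk]

theorem sub_mem_iff (α β : St n → R) :
    (∑ d : St n, MvPolynomial.C (α d) * ∏ i : Fin n, MvPolynomial.X i ^ (d i : ℕ)) -
        (∑ d : St n, MvPolynomial.C (β d) * ∏ i : Fin n, MvPolynomial.X i ^ (d i : ℕ))
      ∈ Ideal.span (Set.range fun i : Fin n => MvPolynomial.esymm (Fin n) R ((i : ℕ) + 1) - MvPolynomial.C (a i))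
        ⊔ Ideal.map (MvPolynomial.C : R →+* MvPolynomial (Fin n) R) J
    ↔ ∀ d, α d - β d ∈ J := by
  rw [mem_sup_iff, map_sub, map_staircase, map_staircase, ← Ideal.Quotient.eq]
  refine ((bijective_mk n fun i => Ideal.Quotient.mk J (a i)).1.eq_iff
    (a := fun d => Ideal.Quotient.mk J (α d)) (b := fun d => Ideal.Quotient.mk J (β d))).trans ?_
  simp [funext_iff, Ideal.Quotient.eq]

end H1Staircase
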